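import Mathlib

/-!
# `Hom_P(Q, N) ⊗_R F = Hom_P(Q, N ⊗_R F)` for `Q` finite over a noetherian `R`-algebra `P` and `F` flat over `R`,
and the same for the submodules cut out by finitely many natural linear conditions.
-/

set_option autoImplicit false

open TensorProduct

namespace Groth.Agent.ResProp.EF.K809

section Ker

variable {R : Type*} [CommRing R] {H : Type*} [AddCommGroup H] [Module R H]
  {F : Type*} [AddCommGroup F] [Module R F]

/-- an element of `(Π G) ⊗ F`, finite product, is zero if its components are -/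
theorem pi_ext {α : Type*} [Finite α] {G : α → Type*} [∀ a, AddCommGroup (G a)] [∀ a, Module R (G a)]
    (y : (∀ a, G a) ⊗[R] F) (h : ∀ a, (LinearMap.proj a : (∀ a, G a) →ₗ[R] G a).rTensor F y = 0) : y = 0 := by
  classical
  cases nonempty_fintype α
  have key : (LinearMap.id : (∀ a, G a) →ₗ[R] (∀ a, G a)) =
      ∑ a, (LinearMap.single R G a) ∘ₗ (LinearMap.proj a) := by
    ext a x b
    simp [Finset.sum_apply]
  have h1 : y = (LinearMap.id : (∀ a, G a) →ₗ[R] (∀ a, G a)).rTensor F y := by simp
  rw [h1, key]
  rw [show (∑ a, (LinearMap.single R G a) ∘ₗ (LinearMap.proj a)).rTensor F =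
    ∑ a, ((LinearMap.single R G a) ∘ₗ (LinearMap.proj a)).rTensor F from map_sum (LinearMap.rTensorHom F) _ _]
  rw [LinearMap.sum_apply]
  apply Finset.sum_eq_zero
  intro a _
  rw [LinearMap.rTensor_comp, LinearMap.comp_apply, h a, map_zero]

/-- flat base change of a finite intersection of kernels -/
theorem mem_range_of_forall {α : Type*} [Finite α] {G : α → Type*} [∀ a, AddCommGroup (G a)]
    [∀ a, Module R (G a)] [Module.Flat R F] (c : ∀ a, H →ₗ[R] G a) (S : Submodule R H)
    (hS : ∀ x, (∀ a, c a x = 0) → x ∈ S) (y : H ⊗[R] F) (h : ∀ a, (c a).rTensor F y = 0) :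
    y ∈ LinearMap.range (S.subtype.rTensor F) := by
  set K := LinearMap.ker (LinearMap.pi c) with hK
  have hKS : K ≤ S := by
    intro x hx
    apply hS
    intro a
    have := congrFun (LinearMap.mem_ker.mp hx) a
    simpa using this
  have h0 : (LinearMap.pi c).rTensor F y = 0 := by
    apply pi_ext
    intro a
    rw [← LinearMap.comp_apply, ← LinearMap.rTensor_comp]
    have : (LinearMap.proj a : (∀ a, G a) →ₗ[R] G a) ∘ₗ LinearMap.pi c = c a := by
      ext; rfl
    rw [this]
    exact h a
  have hex : Function.Exact K.subtype (LinearMap.pi c) := by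
    intro x
    constructor
    · intro hx
      exact ⟨⟨x, hx⟩, rfl⟩
    · rintro ⟨z, rfl⟩
      exact z.2
  have h1 := (Module.Flat.rTensor_exact F hex y).mp h0
  obtain ⟨z, hz⟩ := h1
  refine ⟨(Submodule.inclusion hKS).rTensor F z, ?_⟩
  rw [← LinearMap.comp_apply, ← LinearMap.rTensor_comp]
  exact hz

end Ker

section HomT

variable {R P : Type*} [CommRing R] [CommRing P] [Algebra R P]
variable {Q N : Type*} [AddCommGroup Q] [Module P Q] [AddCommGroup N] [Module R N] [Module P N]
  [IsScalarTower R P N]
variable {F : Type*} [AddCommGroup F] [Module R F]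

/-- `v ↦ v ⊗ f`, `P`-linear -/
noncomputable def tr (P N : Type*) [CommRing P] [Algebra R P] [AddCommGroup N] [Module R N] [Module P N]
    [IsScalarTower R P N] (f : F) : N →ₗ[P] N ⊗[R] F where
  toFun v := v ⊗ₜ f
  map_add' := by intros; rw [add_tmul]
  map_smul' := by intros; rfl

@[simp] theorem tr_apply (f : F) (v : N) : tr (R := R) P N f v = v ⊗ₜ f := rfl

/-- `Hom_P(Q, N) ⊗ F ⟶ Hom_P(Q, N ⊗ F)` -/
noncomputable def homT (R P Q N F : Type*) [CommRing R] [CommRing P] [Algebra R P]
    [AddCommGroup Q] [Module P Q] [AddCommGroup N] [Module R N] [Module P N]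
    [IsScalarTower R P N] [AddCommGroup F] [Module R F] :
    (Q →ₗ[P] N) ⊗[R] F →ₗ[R] (Q →ₗ[P] N ⊗[R] F) :=
  TensorProduct.lift (LinearMap.mk₂ R (fun L f => (tr P N f) ∘ₗ L)
    (by intros; ext; simp [add_tmul]) (by intros; ext; simp [smul_tmul'])
    (by intros; ext; simp [tmul_add]) (by intros; ext; simp [tmul_smul]))

@[simp] theorem homT_tmul (L : Q →ₗ[P] N) (f : F) (q : Q) : homT R P Q N F (L ⊗ₜ f) q = L q ⊗ₜ f := rfl

/-- evaluation at `q` -/
noncomputable def evq (R : Type*) {P Q N : Type*} [CommRing R] [CommRing P] [Algebra R P]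
    [AddCommGroup Q] [Module P Q] [AddCommGroup N] [Module R N] [Module P N]
    [IsScalarTower R P N] (q : Q) : (Q →ₗ[P] N) →ₗ[R] N where
  toFun L := L q
  map_add' := by intros; rfl
  map_smul' := by intros; rfl

theorem homT_eval (y : (Q →ₗ[P] N) ⊗[R] F) (q : Q) :
    homT R P Q N F y q = (evq R q).rTensor F y := by
  induction y with
  | zero => simp
  | add a b ha hb => simp [ha, hb]
  | tmul L f => rfl

theorem homT_injective [Module.Finite P Q] [Module.Flat R F] : Function.Injective (homT R P Q N F) := by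
  rw [← LinearMap.ker_eq_bot, Submodule.eq_bot_iff]
  intro y hy
  rw [LinearMap.mem_ker] at hy
  obtain ⟨s, hs⟩ := (Module.Finite.fg_top : (⊤ : Submodule P Q).FG)
  have := mem_range_of_forall (α := s) (F := F) (fun a => evq R (P := P) (N := N) (a : Q)) ⊥ (by
    intro L hL
    rw [Submodule.mem_bot]
    apply LinearMap.ext
    intro q
    have hq : q ∈ Submodule.span P (s : Set Q) := by rw [hs]; trivial
    induction hq using Submodule.span_induction with
    | mem x hx => exact hL ⟨x, hx⟩
    | zero => simp
    | add x y _ _ hx hy => rw [map_add, hx, hy]; simp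
    | smul a x _ hx => rw [map_smul, hx]; simp) y (by
    intro a
    rw [← homT_eval, hy]
    rfl)
  obtain ⟨z, rfl⟩ := this
  have hz : z = 0 := by
    have : Subsingleton ((⊥ : Submodule R (Q →ₗ[P] N)) ⊗[R] F) := by
      refine ⟨fun a b => ?_⟩
      have h0 : ∀ a : (⊥ : Submodule R (Q →ₗ[P] N)) ⊗[R] F, a = 0 := by
        intro a
        induction a with
        | zero => rfl
        | add a b ha hb => rw [ha, hb, add_zero]
        | tmul x f => rw [Subsingleton.elim x 0, zero_tmul]
      rw [h0 a, h0 b]
    exact Subsingleton.elim _ _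
  rw [hz, map_zero]

/-- the element of `(Fin n → N) ⊗ F` with given components -/
theorem exists_pi {n : ℕ} (t : Fin n → N ⊗[R] F) :
    ∃ y : (Fin n → N) ⊗[R] F, ∀ a, (LinearMap.proj a : (Fin n → N) →ₗ[R] N).rTensor F y = t a := by
  classical
  refine ⟨∑ b, (LinearMap.single R (fun _ : Fin n => N) b).rTensor F (t b), fun a => ?_⟩
  rw [map_sum, Finset.sum_eq_single a]
  · rw [← LinearMap.comp_apply, ← LinearMap.rTensor_comp]
    have : (LinearMap.proj a : (Fin n → N) →ₗ[R] N) ∘ₗ LinearMap.single R (fun _ : Fin n => N) a =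
        LinearMap.id := by ext; simp
    rw [this]; simp
  · intro b _ hb
    rw [← LinearMap.comp_apply, ← LinearMap.rTensor_comp]
    have : (LinearMap.proj a : (Fin n → N) →ₗ[R] N) ∘ₗ LinearMap.single R (fun _ : Fin n => N) b = 0 := by
      ext x
      simp [Ne.symm hb]
    rw [this]; simp
  · simp

theorem homT_surjective [IsNoetherianRing P] [Module.Finite P Q] [Module.Flat R F] :
    Function.Surjective (homT R P Q N F) := by
  intro g
  obtain ⟨n, φ, hφ⟩ := Module.Finite.exists_fin' P Q
  obtain ⟨s, hs⟩ := (IsNoetherian.noetherian (LinearMap.ker φ) : (LinearMap.ker φ).FG)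
  -- evaluation on the free module
  let E : (Fin n → N) →ₗ[R] ((Fin n → P) →ₗ[P] N) :=
    { toFun := fun v => (Fintype.linearCombination P v)
      map_add' := by
        intro v w; ext; simp
      map_smul' := by
        intro r v; ext; simp }
  obtain ⟨y, hy⟩ := exists_pi (fun a => g (φ (Pi.single a 1)))
  -- relation maps
  let c : ∀ r : s, (Fin n → N) →ₗ[R] N := fun r =>
    (evq R (P := P) (r : Fin n → P)) ∘ₗ E
  have hcE : ∀ (x : Fin n → P) (z : (Fin n → N) ⊗[R] F),
      ((evq R (P := P) x) ∘ₗ E).rTensor F z = ∑ a, x a • (LinearMap.proj a : (Fin n → N) →ₗ[R] N).rTensor F z := by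
    intro x z
    induction z with
    | zero => simp
    | add a b ha hb => simp only [map_add, ha, hb, smul_add, Finset.sum_add_distrib]
    | tmul v f =>
      simp only [LinearMap.rTensor_tmul, LinearMap.comp_apply]
      change ((Fintype.linearCombination P v) x) ⊗ₜ f = _
      rw [Fintype.linearCombination_apply, sum_tmul]
      rfl
  have hgE : ∀ x : Fin n → P, ((evq R (P := P) x) ∘ₗ E).rTensor F y = g (φ x) := by
    intro x
    rw [hcE]
    have : x = ∑ a, x a • (Pi.single a (1 : P) : Fin n → P) := by
      ext b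
      simp [Finset.sum_apply, Pi.single_apply]
    conv_rhs => rw [this]
    rw [map_sum, map_sum]
    refine Finset.sum_congr rfl fun a _ => ?_
    rw [hy a, map_smul, map_smul]
  let S : Submodule R (Fin n → N) :=
    { carrier := {v | ∀ x ∈ LinearMap.ker φ, E v x = 0}
      add_mem' := by
        intro v w hv hw x hx
        rw [map_add, LinearMap.add_apply, hv x hx, hw x hx, add_zero]
      zero_mem' := by
        intro x _
        rw [map_zero]; rfl
      smul_mem' := by
        intro r v hv x hx
        rw [map_smul, LinearMap.smul_apply, hv x hx, smul_zero] }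
  have := mem_range_of_forall (α := s) (F := F) c S (by
    intro v hv x hx
    rw [← hs] at hx
    induction hx using Submodule.span_induction with
    | mem x hx => exact hv ⟨x, hx⟩
    | zero => rw [map_zero]
    | add x y _ _ hx hy => rw [map_add, hx, hy, add_zero]
    | smul a x _ hx => rw [map_smul, hx, smul_zero]) y (by
    intro r
    rw [hgE]
    have : φ (r : Fin n → P) = 0 := by
      have h : (r : Fin n → P) ∈ LinearMap.ker φ := by
        rw [← hs]; exact Submodule.subset_span r.2
      exact h
    rw [this, map_zero])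
  obtain ⟨z, hz⟩ := this
  -- descend
  have hex : ∀ v : S, ∃ L : Q →ₗ[P] N, ∀ x, L (φ x) = E v.1 x := by
    intro v
    have hk : LinearMap.ker φ ≤ LinearMap.ker (E v.1) := fun x hx => LinearMap.mem_ker.mpr (v.2 x hx)
    refine ⟨((LinearMap.ker φ).liftQ (E v.1) hk) ∘ₗ
        (φ.quotKerEquivOfSurjective hφ).symm.toLinearMap, fun x => ?_⟩
    have hx : (φ.quotKerEquivOfSurjective hφ).symm (φ x) = Submodule.Quotient.mk x := by
      rw [LinearEquiv.symm_apply_eq]; rfl
    rw [LinearMap.comp_apply, LinearEquiv.coe_toLinearMap, hx, Submodule.liftQ_apply]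
  choose D0 hD using hex
  let D : S →ₗ[R] (Q →ₗ[P] N) :=
    { toFun := D0
      map_add' := by
        intro v w
        apply LinearMap.ext
        intro q
        obtain ⟨x, rfl⟩ := hφ q
        rw [LinearMap.add_apply, hD, hD, hD, Submodule.coe_add, map_add, LinearMap.add_apply]
      map_smul' := by
        intro r v
        apply LinearMap.ext
        intro q
        obtain ⟨x, rfl⟩ := hφ q
        rw [LinearMap.smul_apply, hD, hD, Submodule.coe_smul, map_smul, LinearMap.smul_apply]
        rfl }
  refine ⟨D.rTensor F z, ?_⟩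
  apply LinearMap.ext
  intro q
  obtain ⟨x, rfl⟩ := hφ q
  rw [homT_eval, ← hgE, ← hz]
  rw [← LinearMap.comp_apply, ← LinearMap.rTensor_comp, ← LinearMap.comp_apply, ← LinearMap.rTensor_comp]
  congr 2
  apply LinearMap.ext
  intro v
  exact hD v x

/-- `Hom_P(Q, N) ⊗_R F = Hom_P(Q, N ⊗_R F)` for `P` noetherian, `Q` finite over `P`, `F` flat over `R` -/
theorem homT_bijective [IsNoetherianRing P] [Module.Finite P Q] [Module.Flat R F] :
    Function.Bijective (homT R P Q N F) :=
  ⟨homT_injective, homT_surjective⟩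

end HomT

end Groth.Agent.ResProp.EF.K809
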